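import Groth.Agent.Lib.ExtDerived.Basic
import Mathlib.Algebra.Homology.DerivedCategory.Ext.Map

/-!
`Rⁿ Hom(P, -) = Extⁿ(P, -)` as functors; derived functors of isomorphic functors.
-/

set_option autoImplicit false

universe v u

open CategoryTheory CategoryTheory.Limits Opposite

namespace Groth.Agent.ExtDerived

variable {C : Type u} [Category.{v} C] [Abelian C] [HasExt.{v} C] [EnoughInjectives C]
  (P : C) (n : ℕ)

/-- Homology of `Hom(P, R)`, to `Ext`. -/
noncomputable def homologyToExt {Y : C} (R : InjectiveResolution Y) :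
    (homCx P R).homology n ≅ AddCommGrpCat.of (Abelian.Ext.{v} P Y n) :=
  ShortComplex.homologyMapIso ((homCx P R).isoSc' _ n (n + 1) rfl (CochainComplex.next _ n)) ≪≫
    (homologyEquiv P R n).toAddCommGrpIso

omit [EnoughInjectives C] in
theorem abHomologyπ_homologyEquiv {Y : C} (R : InjectiveResolution Y)
    (x : AddMonoidHom.ker ((homCx P R).d n (n + 1)).hom) :
    homologyEquiv P R n
      ((((homCx P R).sc' ((ComplexShape.up ℕ).prev n) n (n + 1)).abLeftHomologyData.π ≫
        ((homCx P R).sc' ((ComplexShape.up ℕ).prev n) n (n + 1)).abLeftHomologyData.homologyIso.inv).hom x) =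
      toExt P R n x := by
  have e : ∀ (S : ShortComplex AddCommGrpCat.{v}) (h : S.LeftHomologyData) (y : h.H),
      h.homologyIso.hom.hom (h.homologyIso.inv.hom y) = y := fun S h y =>
    h.homologyIso.addCommGroupIsoToAddEquiv.apply_symm_apply y
  simp only [homologyEquiv, AddEquiv.trans_apply]
  erw [e]
  rfl

omit [Category.{v} C] [Abelian C] [HasExt.{v} C] [EnoughInjectives C] in
theorem homologyMap_isoSc' {A : Type*} [Category A] [HasZeroMorphisms A] [CategoryWithHomology A]
    {K L : CochainComplex A ℕ} (ψ : K ⟶ L) (m : ℕ) :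
    HomologicalComplex.homologyMap ψ m ≫
        (ShortComplex.homologyMapIso (L.isoSc' _ m (m + 1) rfl (CochainComplex.next _ m))).hom =
      (ShortComplex.homologyMapIso (K.isoSc' _ m (m + 1) rfl (CochainComplex.next _ m))).hom ≫
        ShortComplex.homologyMap ((HomologicalComplex.shortComplexFunctor' _ _
          ((ComplexShape.up ℕ).prev m) m (m + 1)).map ψ) :=
  by
  let N := HomologicalComplex.natIsoSc' A (ComplexShape.up ℕ) _ m (m + 1) rfl (CochainComplex.next _ m)
  change ShortComplex.homologyMap ((HomologicalComplex.shortComplexFunctor A (ComplexShape.up ℕ) m).map ψ) ≫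
      ShortComplex.homologyMap (N.hom.app L) =
    ShortComplex.homologyMap (N.hom.app K) ≫ ShortComplex.homologyMap _
  rw [← ShortComplex.homologyMap_comp, ← ShortComplex.homologyMap_comp, N.hom.naturality ψ]

theorem homologyToExt_naturality {Y Z : C} (g : Y ⟶ Z) (R : InjectiveResolution Y)
    (R' : InjectiveResolution Z) (φ : InjectiveResolution.Hom R R' g) :
    HomologicalComplex.homologyMap
        (((preadditiveCoyoneda.obj (op P)).mapHomologicalComplex (ComplexShape.up ℕ)).map φ.hom) n ≫
        (homologyToExt P n R').hom =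
      (homologyToExt P n R).hom ≫ ((Abelian.extFunctorObj.{v} P n).map g) := by
  let ψ := ((preadditiveCoyoneda.obj (op P)).mapHomologicalComplex (ComplexShape.up ℕ)).map φ.hom
  let i := (ComplexShape.up ℕ).prev n
  let ψ' : (homCx P R).sc' i n (n + 1) ⟶ (homCx P R').sc' i n (n + 1) :=
    (HomologicalComplex.shortComplexFunctor' _ _ i n (n + 1)).map ψ
  have h1 := homologyMap_isoSc' ψ n
  simp only [homologyToExt, Iso.trans_hom]
  refine (Category.assoc _ _ _).symm.trans ((congrArg (· ≫ _) h1).trans
    ((Category.assoc _ _ _).trans (Eq.trans (congrArg (_ ≫ ·) ?_) (Category.assoc _ _ _).symm)))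
  let D := ((homCx P R).sc' i n (n + 1)).abLeftHomologyData
  let D' := ((homCx P R').sc' i n (n + 1)).abLeftHomologyData
  have : Epi (D.π ≫ D.homologyIso.inv) := inferInstance
  rw [← cancel_epi (D.π ≫ D.homologyIso.inv)]
  let m : ShortComplex.LeftHomologyMapData ψ' D D' := default
  ext x
  have hm : ShortComplex.homologyMap ψ' = D.homologyIso.hom ≫ m.φH ≫ D'.homologyIso.inv :=
    m.homologyMap_eq
  have h2 : (D.π ≫ D.homologyIso.inv) ≫ ShortComplex.homologyMap ψ' =
      m.φK ≫ D'.π ≫ D'.homologyIso.inv := by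
    rw [hm, Category.assoc, Iso.inv_hom_id_assoc, m.commπ_assoc]
  have h3 : (m.φK.hom x).1 = x.1 ≫ φ.hom.f n := ConcreteCategory.congr_hom m.commi x
  refine (congrArg (homologyEquiv P R' n) (ConcreteCategory.congr_hom h2 x)).trans ?_
  refine (abHomologyπ_homologyEquiv P n R' (m.φK.hom x)).trans ?_
  refine Eq.trans ?_ (congrArg (fun t => t.comp (Abelian.Ext.mk₀ g) (add_zero n))
    (abHomologyπ_homologyEquiv P n R x).symm)
  refine Eq.trans ?_ (InjectiveResolution.extMk_comp_mk₀ x.1 (n + 1) rfl x.2 φ).symm
  have key : ∀ (f f' : P ⟶ R'.cocomplex.X n) (hf : f ≫ R'.cocomplex.d n (n + 1) = 0)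
      (hf' : f' ≫ R'.cocomplex.d n (n + 1) = 0), f = f' →
      R'.extMk f (n + 1) rfl hf = R'.extMk f' (n + 1) rfl hf' := by
    rintro f f' hf hf' rfl
    rfl
  exact key _ _ (m.φK.hom x).2 _ h3

/-- `Rⁿ Hom(P, -) ≅ Extⁿ(P, -)`. -/
noncomputable def rightDerivedCoyonedaNatIso :
    (preadditiveCoyoneda.obj (op P)).rightDerived n ≅ Abelian.extFunctorObj.{v} P n :=
  NatIso.ofComponents
    (fun Y => (injectiveResolution Y).isoRightDerivedObj _ n ≪≫ homologyToExt P n (injectiveResolution Y))
    (fun {Y Z} g => by
      let R := injectiveResolution Y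
      let R' := injectiveResolution Z
      let φ : InjectiveResolution.Hom R R' g :=
        { hom := InjectiveResolution.desc g R' R
          ι_f_zero_comp_hom_f_zero := by simpa using InjectiveResolution.desc_commutes_zero g R' R }
      have h := InjectiveResolution.isoRightDerivedObj_hom_naturality g R R' φ.hom
        (by simpa using φ.ι_f_zero_comp_hom_f_zero) (preadditiveCoyoneda.obj (op P)) n
      simp only [Iso.trans_hom]
      erw [reassoc_of% h, homologyToExt_naturality P n g R R' φ]
      simp only [Category.assoc]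
      rfl)

omit [HasExt.{v} C] in
/-- Derived functors of isomorphic functors. -/
noncomputable def rightDerivedMapIso {D : Type*} [Category D] [Abelian D] {F G : C ⥤ D}
    [F.Additive] [G.Additive] (e : F ≅ G) : F.rightDerived n ≅ G.rightDerived n where
  hom := NatTrans.rightDerived e.hom n
  inv := NatTrans.rightDerived e.inv n
  hom_inv_id := by rw [← NatTrans.rightDerived_comp, e.hom_inv_id, NatTrans.rightDerived_id]
  inv_hom_id := by rw [← NatTrans.rightDerived_comp, e.inv_hom_id, NatTrans.rightDerived_id]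

end Groth.Agent.ExtDerived
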