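import Mathlib.CategoryTheory.Abelian.Injective.Ext
import Mathlib.CategoryTheory.Abelian.RightDerived
import Mathlib.CategoryTheory.Preadditive.Yoneda.Basic
import Mathlib.Algebra.Homology.ShortComplex.Ab
import Mathlib.Algebra.Category.Grp.Abelian
import Mathlib.GroupTheory.QuotientGroup.Basic

/-!
`Ext P -` as the right derived functors of `Hom(P, -)`.
-/

set_option autoImplicit false

universe v u

open CategoryTheory CategoryTheory.Limits Opposite

namespace Groth.Agent.ExtDerived

variable {C : Type u} [Category.{v} C] [Abelian C] [HasExt.{v} C] [EnoughInjectives C]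
  (P : C) {Y : C} (R : InjectiveResolution Y) (n : ℕ)

/-- `Hom(P, R)`. -/
noncomputable abbrev homCx : CochainComplex AddCommGrpCat.{v} ℕ :=
  ((preadditiveCoyoneda.obj (op P)).mapHomologicalComplex (ComplexShape.up ℕ)).obj R.cocomplex

omit [HasExt.{v} C] [EnoughInjectives C] in
theorem homCx_d_apply (i j : ℕ) (f : P ⟶ R.cocomplex.X i) :
    ((homCx P R).d i j).hom f = f ≫ R.cocomplex.d i j := rfl

/-- Cocycles give classes. -/
noncomputable def toExt : AddMonoidHom.ker ((homCx P R).d n (n + 1)).hom →+ Abelian.Ext.{v} P Y n :=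
  AddMonoidHom.mk' (fun f => R.extMk f.1 (n + 1) rfl f.2)
    (fun f g => (R.add_extMk f.1 g.1 (n + 1) rfl f.2 g.2).symm)

omit [EnoughInjectives C] in
theorem toExt_surjective : Function.Surjective (toExt P R n) := fun α => by
  obtain ⟨f, hf, rfl⟩ := R.extMk_surjective α (n + 1) rfl
  exact ⟨⟨f, hf⟩, rfl⟩

omit [EnoughInjectives C] in
theorem extMk_zero_iff (f : P ⟶ R.cocomplex.X 0) (hf : f ≫ R.cocomplex.d 0 1 = 0) :
    R.extMk f 1 rfl hf = 0 ↔ f = 0 := by
  refine ⟨fun h => ?_, by rintro rfl; simp⟩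
  simp only [← R.extEquivCohomologyClass.apply_eq_iff_eq,
    InjectiveResolution.extEquivCohomologyClass_extMk,
    InjectiveResolution.extEquivCohomologyClass_zero,
    CochainComplex.HomComplex.CohomologyClass.mk_eq_zero_iff] at h
  rw [CochainComplex.HomComplex.Cocycle.fromSingleMk_mem_coboundaries_iff _ _ _ _ _ (-1)
    (by simp)] at h
  obtain ⟨g, hg⟩ := h
  rw [(CochainComplex.isZero_of_isStrictlyGE R.cochainComplex 0 (-1)).eq_of_tgt g 0, zero_comp] at hg
  rw [← cancel_mono (R.cochainComplexXIso _ 0 rfl).inv, zero_comp]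
  exact hg.symm

omit [EnoughInjectives C] in
theorem toExt_eq_zero_iff (x : AddMonoidHom.ker ((homCx P R).d n (n + 1)).hom) :
    toExt P R n x = 0 ↔
      ∃ y, ((homCx P R).d ((ComplexShape.up ℕ).prev n) n).hom y = x.1 := by
  rcases n with _ | p
  · refine (extMk_zero_iff P R x.1 x.2).trans ?_
    have hd : (homCx P R).d ((ComplexShape.up ℕ).prev 0) 0 = 0 :=
      (homCx P R).shape _ _ (by simp)
    constructor
    · exact fun h => ⟨0, by rw [map_zero]; exact h.symm⟩
    · rintro ⟨y, hy⟩
      rw [hd] at hy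
      exact hy.symm
  · refine (R.extMk_eq_zero_iff x.1 (p + 2) rfl x.2 p rfl).trans ?_
    rw [CochainComplex.prev_nat_succ]
    exact Iff.rfl

/-- The cohomology of `Hom(P, R)` is `Ext P Y`. -/
noncomputable def homologyEquiv :
    ((homCx P R).sc' ((ComplexShape.up ℕ).prev n) n (n + 1)).homology ≃+ Abelian.Ext.{v} P Y n :=
  let S := (homCx P R).sc' ((ComplexShape.up ℕ).prev n) n (n + 1)
  let φ : AddMonoidHom.ker S.g.hom →+ Abelian.Ext.{v} P Y n := toExt P R n
  (S.abLeftHomologyData.homologyIso).addCommGroupIsoToAddEquiv.trans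
    ((QuotientAddGroup.quotientAddEquivOfEq (by
        ext x
        refine Iff.trans ?_ (AddMonoidHom.mem_ker.trans (toExt_eq_zero_iff P R n x)).symm
        exact ⟨fun ⟨y, hy⟩ => ⟨y, congrArg Subtype.val hy⟩,
          fun ⟨y, hy⟩ => ⟨y, Subtype.ext hy⟩⟩ :
        AddMonoidHom.range S.abToCycles = φ.ker)).trans
      (QuotientAddGroup.quotientKerEquivOfSurjective φ (toExt_surjective P R n)))

/-- `Rⁿ Hom(P, -) = Extⁿ(P, -)`. -/
noncomputable def rightDerivedCoyonedaIso (Y : C) :
    ((preadditiveCoyoneda.obj (op P)).rightDerived n).obj Y ≅ AddCommGrpCat.of (Abelian.Ext.{v} P Y n) :=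
  (injectiveResolution Y).isoRightDerivedObj _ n ≪≫
    ShortComplex.homologyMapIso ((homCx P (injectiveResolution Y)).isoSc' _ n (n + 1) rfl
      (CochainComplex.next _ n)) ≪≫
    (homologyEquiv P (injectiveResolution Y) n).toAddCommGrpIso

omit [HasExt.{v} C] in
/-- Right derived functors only depend on the functor up to isomorphism. -/
theorem nonempty_rightDerived_iso_of_iso {D : Type*} [Category D] [Abelian D] {F G : C ⥤ D}
    [F.Additive] [G.Additive] (e : F ≅ G) (Y : C) :
    Nonempty ((F.rightDerived n).obj Y ≅ (G.rightDerived n).obj Y) :=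
  ⟨(injectiveResolution Y).isoRightDerivedObj F n ≪≫
    (HomologicalComplex.homologyFunctor D (ComplexShape.up ℕ) n).mapIso
      ((NatIso.mapHomologicalComplex e (ComplexShape.up ℕ)).app _) ≪≫
    ((injectiveResolution Y).isoRightDerivedObj G n).symm⟩

end Groth.Agent.ExtDerived
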